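import Groth.Prelude.Def_Koszul
import Groth.Agent.CechX.ConeElt
import Groth.Agent.FlatCx.Homology

/-!
# Elementary properties of the cone model of the Koszul complex
-/

set_option autoImplicit false
set_option linter.style.haveILetI false

universe u

namespace Groth.Agent.AnnKill

open CategoryTheory CategoryTheory.Limits CochainComplex Groth.Agent.CechX

variable {R : Type u} [CommRing R]

theorem kz_smul_id_apply (a : R) (K : CochainComplex (ModuleCat.{u} R) ℤ) (p : ℤ) (x : K.X p) :
    (a • 𝟙 K : K ⟶ K).f p x = a • x := by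
  simp

/-- The components of an element of the cone. -/
noncomputable def coneEquiv {K L : CochainComplex (ModuleCat.{u} R) ℤ} (φ : K ⟶ L) (p q : ℤ) (h : p + 1 = q) :
    ↑((mappingCone φ).X p) ≃ₗ[R] ↑(K.X q) × ↑(L.X p) :=
  LinearEquiv.ofBijective ((c1 φ p q h).prod (c2 φ p))
    ⟨fun z w e => cone_ext h (congrArg Prod.fst e) (congrArg Prod.snd e),
      fun y => ⟨cmk φ p q h y.1 y.2, Prod.ext (c1_cmk h _ _) (c2_cmk h _ _)⟩⟩

theorem subsingleton_single {j p : ℤ} (hp : p ≠ j) (M : ModuleCat.{u} R) :
    Subsingleton ↑(((CochainComplex.singleFunctor (ModuleCat.{u} R) j).obj M).X p) :=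
  ModuleCat.subsingleton_of_isZero (HomologicalComplex.isZero_single_obj_X (ComplexShape.up ℤ) j M p hp)

theorem kz_subsingleton : ∀ (l : List R) (p : ℤ), 0 < p ∨ p < -(l.length : ℤ) →
    Subsingleton ↑((Koszul.koszul R l).X p)
  | [], p, hp => subsingleton_single (by simp at hp; omega) _
  | f :: l, p, hp => by
    have h1 := kz_subsingleton l (p + 1) (by simp at hp; omega)
    have h2 := kz_subsingleton l p (by simp at hp; omega)
    haveI := h1
    haveI := h2
    exact (coneEquiv (f • 𝟙 (Koszul.koszul R l)) p (p + 1) rfl).toEquiv.subsingleton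

theorem kz_free_finite : ∀ (l : List R) (p : ℤ),
    Module.Free R ↑((Koszul.koszul R l).X p) ∧ Module.Finite R ↑((Koszul.koszul R l).X p)
  | [], p => by
    by_cases hp : p = 0
    · subst hp
      let e := (HomologicalComplex.singleObjXSelf (ComplexShape.up ℤ) 0 (ModuleCat.of R R)).toLinearEquiv
      exact ⟨Module.Free.of_equiv e.symm, Module.Finite.equiv e.symm⟩
    · haveI : Subsingleton ↑((Koszul.koszul R ([] : List R)).X p) := subsingleton_single hp (ModuleCat.of R R)
      exact ⟨Module.Free.of_subsingleton R _, Module.Finite.of_finite⟩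
  | f :: l, p => by
    haveI := (kz_free_finite l (p + 1)).1
    haveI := (kz_free_finite l (p + 1)).2
    haveI := (kz_free_finite l p).1
    haveI := (kz_free_finite l p).2
    let e := coneEquiv (f • 𝟙 (Koszul.koszul R l)) p (p + 1) rfl
    exact ⟨Module.Free.of_equiv e.symm, Module.Finite.equiv e.symm⟩

theorem kz_nontrivial [Nontrivial R] : ∀ (l : List R) (p : ℤ), p = -(l.length : ℤ) →
    Nontrivial ↑((Koszul.koszul R l).X p)
  | [], p, hp => by
    obtain rfl : p = 0 := by simpa using hp
    exact (HomologicalComplex.singleObjXSelf (ComplexShape.up ℤ) 0 (ModuleCat.of R R)).toLinearEquiv.toEquiv.nontrivial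
  | f :: l, p, hp => by
    haveI := kz_nontrivial l (p + 1) (by simp at hp; omega)
    haveI : Nontrivial (↑((Koszul.koszul R l).X (p + 1)) × ↑((Koszul.koszul R l).X p)) :=
      nontrivial_prod_left
    exact (coneEquiv (f • 𝟙 (Koszul.koszul R l)) p (p + 1) rfl).toEquiv.nontrivial

theorem kz_d_mem : ∀ (l : List R) (p q : ℤ) (z : (Koszul.koszul R l).X p),
    (Koszul.koszul R l).d p q z ∈ Ideal.ofList l • (⊤ : Submodule R ↑((Koszul.koszul R l).X q))
  | [], p, q, z => by
    have h : (Koszul.koszul R ([] : List R)).d p q = 0 := rfl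
    rw [h]
    exact Submodule.zero_mem _
  | f :: l, p, q, z => by
    by_cases hpq : p + 1 = q
    · subst hpq
      let φ := f • 𝟙 (Koszul.koszul R l)
      change (mappingCone φ).d p (p + 1) z ∈ Ideal.ofList (f :: l) • (⊤ : Submodule R ↑((mappingCone φ).X (p + 1)))
      let e := coneEquiv φ (p + 1) (p + 2) (by omega)
      rw [← e.symm_apply_apply ((mappingCone φ).d p (p + 1) z)]
      let w := e ((mappingCone φ).d p (p + 1) z)
      have hle : Ideal.ofList l ≤ Ideal.ofList (f :: l) := by
        rw [Ideal.ofList_cons]; exact le_sup_right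
      have hf : f ∈ Ideal.ofList (f :: l) := by
        rw [Ideal.ofList_cons]; exact Ideal.mem_sup_left (Ideal.mem_span_singleton_self f)
      have hw1 : w.1 ∈ Ideal.ofList (f :: l) • (⊤ : Submodule R _) := by
        change c1 φ (p + 1) (p + 2) _ _ ∈ _
        rw [c1_d rfl (by omega)]
        exact Submodule.neg_mem _ (Submodule.smul_mono_left hle (kz_d_mem l _ _ _))
      have hw2 : w.2 ∈ Ideal.ofList (f :: l) • (⊤ : Submodule R _) := by
        change c2 φ (p + 1) _ ∈ _
        rw [c2_d rfl, kz_smul_id_apply]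
        exact Submodule.add_mem _ (Submodule.smul_mem_smul hf trivial) (Submodule.smul_mono_left hle (kz_d_mem l _ _ _))
      rw [show e.symm w = e.symm (LinearMap.inl R _ _ w.1) + e.symm (LinearMap.inr R _ _ w.2) by
        rw [← map_add]; simp]
      refine Submodule.add_mem _ ?_ ?_
      · exact Submodule.smul_mono le_rfl le_top (Submodule.map_smul'' _ _ (e.symm.toLinearMap ∘ₗ LinearMap.inl R _ _) ▸
          Submodule.mem_map_of_mem hw1)
      · exact Submodule.smul_mono le_rfl le_top (Submodule.map_smul'' _ _ (e.symm.toLinearMap ∘ₗ LinearMap.inr R _ _) ▸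
          Submodule.mem_map_of_mem hw2)
    · rw [(Koszul.koszul R (f :: l)).shape p q (by simpa using hpq)]
      exact Submodule.zero_mem _

/-- Elements of the sequence act null homotopically. -/
theorem kz_homotopy : ∀ (l : List R) (g : R), g ∈ l →
    ∃ h : ∀ p q : ℤ, p + 1 = q → (↑((Koszul.koszul R l).X q) →ₗ[R] ↑((Koszul.koszul R l).X p)),
      ∀ (p q r : ℤ) (hpq : p + 1 = q) (hqr : q + 1 = r) (z : (Koszul.koszul R l).X q),
        (Koszul.koszul R l).d p q (h p q hpq z) + h q r hqr ((Koszul.koszul R l).d q r z) = g • z := by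
  intro l
  induction l with
  | nil => intro g hg; simp at hg
  | cons f l ih =>
    intro g hg
    let φ := f • 𝟙 (Koszul.koszul R l)
    change ∃ h : ∀ p q : ℤ, p + 1 = q → (↑((mappingCone φ).X q) →ₗ[R] ↑((mappingCone φ).X p)),
      ∀ (p q r : ℤ) (hpq : p + 1 = q) (hqr : q + 1 = r) (z : (mappingCone φ).X q),
        (mappingCone φ).d p q (h p q hpq z) + h q r hqr ((mappingCone φ).d q r z) = g • z
    rcases List.mem_cons.mp hg with rfl | hg'
    · refine ⟨fun p q hpq => (coneEquiv φ p q hpq).symm.toLinearMap ∘ₗ LinearMap.inl R _ _ ∘ₗ c2 φ q,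
        fun p q r hpq hqr z => ?_⟩
      apply (coneEquiv φ q r hqr).injective
      rw [map_add, map_smul]
      refine Prod.ext ?_ ?_
      · change c1 φ q r hqr _ + c1 φ q r hqr _ = g • c1 φ q r hqr z
        have a1 : ∀ y, c1 φ p q hpq ((coneEquiv φ p q hpq).symm y) = y.1 := fun y =>
          congrArg Prod.fst ((coneEquiv φ p q hpq).apply_symm_apply y)
        have b1 : ∀ y, c1 φ q r hqr ((coneEquiv φ q r hqr).symm y) = y.1 := fun y =>
          congrArg Prod.fst ((coneEquiv φ q r hqr).apply_symm_apply y)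
        simp only [LinearMap.comp_apply, LinearEquiv.coe_coe, c1_d hpq hqr, a1, b1, LinearMap.inl_apply]
        rw [c2_d hqr, kz_smul_id_apply]
        abel
      · change c2 φ q _ + c2 φ q _ = g • c2 φ q z
        have a1 : ∀ y, c1 φ p q hpq ((coneEquiv φ p q hpq).symm y) = y.1 := fun y =>
          congrArg Prod.fst ((coneEquiv φ p q hpq).apply_symm_apply y)
        have a2 : ∀ y, c2 φ p ((coneEquiv φ p q hpq).symm y) = y.2 := fun y =>
          congrArg Prod.snd ((coneEquiv φ p q hpq).apply_symm_apply y)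
        have b2 : ∀ y, c2 φ q ((coneEquiv φ q r hqr).symm y) = y.2 := fun y =>
          congrArg Prod.snd ((coneEquiv φ q r hqr).apply_symm_apply y)
        simp only [LinearMap.comp_apply, LinearEquiv.coe_coe, c2_d hpq, a1, a2, b2, LinearMap.inl_apply]
        rw [kz_smul_id_apply, map_zero, add_zero, add_zero]
    · obtain ⟨h, hh⟩ := ih g hg'
      refine ⟨fun p q hpq => (coneEquiv φ p q hpq).symm.toLinearMap ∘ₗ
        ((-(h q (q + 1) rfl) ∘ₗ c1 φ q (q + 1) rfl).prod (h p q hpq ∘ₗ c2 φ q)), fun p q r hpq hqr z => ?_⟩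
      subst hqr
      apply (coneEquiv φ q (q + 1) rfl).injective
      rw [map_add, map_smul]
      have a1 : ∀ y, c1 φ p q hpq ((coneEquiv φ p q hpq).symm y) = y.1 := fun y =>
        congrArg Prod.fst ((coneEquiv φ p q hpq).apply_symm_apply y)
      have a2 : ∀ y, c2 φ p ((coneEquiv φ p q hpq).symm y) = y.2 := fun y =>
        congrArg Prod.snd ((coneEquiv φ p q hpq).apply_symm_apply y)
      have b1 : ∀ y, c1 φ q (q + 1) rfl ((coneEquiv φ q (q + 1) rfl).symm y) = y.1 := fun y =>
        congrArg Prod.fst ((coneEquiv φ q (q + 1) rfl).apply_symm_apply y)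
      have b2 : ∀ y, c2 φ q ((coneEquiv φ q (q + 1) rfl).symm y) = y.2 := fun y =>
        congrArg Prod.snd ((coneEquiv φ q (q + 1) rfl).apply_symm_apply y)
      refine Prod.ext ?_ ?_
      · change c1 φ q (q + 1) rfl _ + c1 φ q (q + 1) rfl _ = g • c1 φ q (q + 1) rfl z
        simp only [LinearMap.comp_apply, LinearEquiv.coe_coe, c1_d hpq rfl, a1, b1, LinearMap.prod_apply,
          Function.prod_apply, LinearMap.neg_apply]
        rw [c1_d rfl rfl, map_neg, map_neg, neg_neg, neg_neg, hh q (q + 1) (q + 1 + 1) rfl rfl]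
      · change c2 φ q _ + c2 φ q _ = g • c2 φ q z
        simp only [LinearMap.comp_apply, LinearEquiv.coe_coe, c2_d hpq, a1, a2, b2, LinearMap.prod_apply,
          Function.prod_apply, LinearMap.neg_apply]
        rw [c2_d rfl, kz_smul_id_apply, kz_smul_id_apply, map_add, map_smul, smul_neg,
          ← hh p q (q + 1) hpq rfl]
        abel

/-- The homology of the Koszul complex is killed by the sequence. -/
theorem kz_smul_mem_range (l : List R) (g : R) (hg : g ∈ l) (p q r : ℤ) (hpq : p + 1 = q) (hqr : q + 1 = r)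
    (z : (Koszul.koszul R l).X q) (hz : (Koszul.koszul R l).d q r z = 0) :
    ∃ y, (Koszul.koszul R l).d p q y = g • z := by
  obtain ⟨h, hh⟩ := kz_homotopy l g hg
  refine ⟨h p q hpq z, ?_⟩
  rw [← hh p q r hpq hqr z, hz, map_zero, add_zero]

end Groth.Agent.AnnKill
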